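import Groth.Agent.Lib.ConStalk4.Maps

/-!
# The sequence `C_{Z/X} → i^*Ω_X → Ω_Z → 0`
-/

set_option autoImplicit false
set_option linter.all false
set_option backward.isDefEq.respectTransparency false
set_option maxHeartbeats 1000000

universe u

open CategoryTheory CategoryTheory.Limits AlgebraicGeometry Opposite TopologicalSpace
open scoped TensorProduct
open GrothLib GrothLib.OmegaUniv GrothLib.ConStalk4
open GrothLib.IdealModSec (val)

noncomputable section

namespace GrothLib.RibExt10

attribute [local instance] OmegaUniv.stalkAlg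

variable {X Y Z : Scheme.{u}} (p : X ⟶ Y) (i : Z ⟶ X) [IsImmersion i] [QuasiCompact i]
  {Ω : X.Modules} {d : OmegaSh.Der p Ω} (hd : OmegaSh.IsUniversal d)
  {ΩZ : Z.Modules} {dZ : OmegaSh.Der (i ≫ p) ΩZ} (hdZ : OmegaSh.IsUniversal dZ)
  (φ : Omega.conormal i ⟶ (Scheme.Modules.pullback i).obj Ω) (hφ : OmegaSh.IsConormalDiff i d φ)
  (c : (Scheme.Modules.pullback i).obj Ω ⟶ ΩZ) (hc : OmegaSh.IsDiffCompat i d dZ c)

include hφ in
theorem conormal_comp_eq_zero' {j : Z ⟶ Y} {dW : OmegaSh.Der j ΩZ} (hc' : OmegaSh.IsDiffCompat i d dW c) :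
    φ ≫ c = 0 := by
  refine PPGen.hom_ext_pullSect i (M := ClSub.idealMod i.ker) (G := ΩZ) _ _ fun U m => ?_
  show c.app (i ⁻¹ᵁ U) (φ.app (i ⁻¹ᵁ U) (OmegaSh.conormalSect i U m)) = 0
  rw [hφ U m, hc' U (OmegaSh.idealSect i.ker U m)]
  exact (congrArg (dW.app (i ⁻¹ᵁ U)) (H1Sheaf6.app_val_eq_zero i U m)).trans (map_zero _)

include hd hdZ hφ hc in
/-- Exactness and surjectivity. -/
theorem exact_and_epi_diffCompat (w : φ ≫ c = 0) : (ShortComplex.mk φ c w).Exact ∧ Epi c := by
  have key : ∀ z : Z,
      letI : Algebra (Y.presheaf.stalk (p (i z))) (Z.presheaf.stalk z) := stalkAlg (i ≫ p) z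
      haveI : IsScalarTower (Y.presheaf.stalk (p (i z))) (X.presheaf.stalk (i z)) (Z.presheaf.stalk z) :=
        IsScalarTower.of_algebraMap_eq fun a => stalkMap_comp_apply (p := p) i z a
      ∀ x : Z.presheaf.stalk z ⊗[X.presheaf.stalk (i z)] Kah p (i z),
      stalkEquiv z hdZ (stalkLin z c ((omegaEquiv i z hd).symm x)) =
        KaehlerDifferential.mapBaseChange (Y.presheaf.stalk (p (i z))) (X.presheaf.stalk (i z))
          (Z.presheaf.stalk z) x := by
    intro z
    letI : Algebra (Y.presheaf.stalk (p (i z))) (Z.presheaf.stalk z) := stalkAlg (i ≫ p) z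
    haveI : IsScalarTower (Y.presheaf.stalk (p (i z))) (X.presheaf.stalk (i z)) (Z.presheaf.stalk z) :=
      IsScalarTower.of_algebraMap_eq fun a => stalkMap_comp_apply (p := p) i z a
    intro x
    induction x using TensorProduct.induction_on with
    | zero => simp
    | add a b ha hb => simp only [map_add, ha, hb]
    | tmul e ω =>
      have hω : ω ∈ Submodule.span (X.presheaf.stalk (i z))
          (Set.range (KaehlerDifferential.D (Y.presheaf.stalk (p (i z))) (X.presheaf.stalk (i z)))) := by
        rw [KaehlerDifferential.span_range_derivation]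
        exact Submodule.mem_top
      induction hω using Submodule.span_induction generalizing e with
      | zero => simp
      | add a b _ _ ha hb => simp only [TensorProduct.tmul_add, map_add, ha, hb]
      | smul r a _ ha => simp only [← TensorProduct.smul_tmul, ha]
      | mem a ha =>
        obtain ⟨b, rfl⟩ := ha
        obtain ⟨U, hU, s, rfl⟩ := TopCat.Presheaf.exists_germ_eq X.presheaf b
        have he : e ⊗ₜ[X.presheaf.stalk (i z)] KaehlerDifferential.D (Y.presheaf.stalk (p (i z)))
            (X.presheaf.stalk (i z)) (X.presheaf.germ U (i z) hU s) =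
          e • ((1 : Z.presheaf.stalk z) ⊗ₜ[X.presheaf.stalk (i z)] KaehlerDifferential.D (Y.presheaf.stalk (p (i z)))
            (X.presheaf.stalk (i z)) (X.presheaf.germ U (i z) hU s)) := by
          rw [TensorProduct.smul_tmul', smul_eq_mul, mul_one]
        rw [he, map_smul, map_smul, map_smul, map_smul]
        refine congrArg (e • ·) ?_
        rw [← omegaEquiv_germ i z hd U hU s, LinearEquiv.symm_apply_apply, stalkLin_germ, hc U s,
          omegaEquiv_germ, KaehlerDifferential.mapBaseChange_tmul, one_smul, KaehlerDifferential.map_D]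
        refine (stalkEquiv_dg z hdZ (i ⁻¹ᵁ U) hU (i.app U s)).trans ?_
        exact congrArg (KaehlerDifferential.D (Y.presheaf.stalk ((i ≫ p) z)) (Z.presheaf.stalk z))
          (Scheme.Hom.germ_stalkMap_apply i U z hU s).symm
  constructor
  · rw [OX.exact_iff]
    intro z
    rw [ShortComplex.moduleCat_exact_iff]
    intro (e : St z ((Scheme.Modules.pullback i).obj Ω)) (he : stalkLin z c e = 0)
    show ∃ e', stalkLin z φ e' = e
    letI : Algebra (Y.presheaf.stalk (p (i z))) (Z.presheaf.stalk z) := stalkAlg (i ≫ p) z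
    haveI : IsScalarTower (Y.presheaf.stalk (p (i z))) (X.presheaf.stalk (i z)) (Z.presheaf.stalk z) :=
      IsScalarTower.of_algebraMap_eq fun a => stalkMap_comp_apply (p := p) i z a
    have h := key z (omegaEquiv i z hd e)
    rw [LinearEquiv.symm_apply_apply, he, map_zero] at h
    obtain ⟨y, hy⟩ := ((KaehlerDifferential.exact_kerCotangentToTensor_mapBaseChange (Y.presheaf.stalk (p (i z)))
      (X.presheaf.stalk (i z)) (Z.presheaf.stalk z) (i.stalkMap_surjective z)) _).1 h.symm
    obtain ⟨k, rfl⟩ := Ideal.toCotangent_surjective _ y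
    refine ⟨cls i z ⟨k.1, k.2⟩, (omegaEquiv i z hd).injective ?_⟩
    rw [omegaEquiv_conormalDiff i z hd φ hφ ⟨k.1, k.2⟩, ← hy]
    exact (KaehlerDifferential.kerCotangentToTensor_toCotangent _ _ _ k).symm
  · rw [OX.epi_iff]
    intro z
    rw [ModuleCat.epi_iff_surjective]
    show Function.Surjective (stalkLin z c)
    intro w'
    letI : Algebra (Y.presheaf.stalk (p (i z))) (Z.presheaf.stalk z) := stalkAlg (i ≫ p) z
    haveI : IsScalarTower (Y.presheaf.stalk (p (i z))) (X.presheaf.stalk (i z)) (Z.presheaf.stalk z) :=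
      IsScalarTower.of_algebraMap_eq fun a => stalkMap_comp_apply (p := p) i z a
    obtain ⟨x, hx⟩ := KaehlerDifferential.mapBaseChange_surjective (Y.presheaf.stalk (p (i z)))
      (X.presheaf.stalk (i z)) (Z.presheaf.stalk z) (i.stalkMap_surjective z) (stalkEquiv z hdZ w')
    exact ⟨(omegaEquiv i z hd).symm x, (stalkEquiv z hdZ).injective ((key z x).trans hx)⟩

end GrothLib.RibExt10
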