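import Groth.Agent.Lib.RibExt10.Scheme
import Groth.Agent.Lib.RibExt10.OmegaSeq
import Groth.Agent.Lib.ConStalk4.DiffMap
import Groth.Agent.Lib.SqZero11.ExtClass
import Groth.Agent.S9370

/-!
# The cotangent extension of the ribbon of an extension
-/

set_option autoImplicit false
set_option linter.all false
set_option backward.isDefEq.respectTransparency false
set_option maxHeartbeats 1000000

universe w u

open CategoryTheory CategoryTheory.Limits AlgebraicGeometry TopologicalSpace Opposite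
open GrothLib.InvExt

noncomputable section

namespace GrothLib.RibExt10

open GrothLib.Ribbon10

namespace Data

variable {D S : Scheme.{u}} {pD : D ⟶ S} (P : Data D S pD)

theorem ker_sq : P.emb.ker ^ 2 = ⊥ := by
  refine Scheme.IdealSheafData.ext_of_iSup_eq_top (fun U : P.obj.affineOpens => U) (iSup_affineOpens_eq_top _)
    fun U => ?_
  simp only [Scheme.IdealSheafData.ideal_pow, Scheme.IdealSheafData.ideal_bot, Pi.bot_apply, Pi.pow_apply,
    Scheme.Hom.ker_apply]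
  rw [eq_bot_iff, pow_two, Ideal.mul_le]
  intro a ha b hb
  refine Ideal.mem_bot.2 (P.tau_injective U.1 ?_)
  have ha' : (P.tau U.1 a).fst = 0 := (P.fst_tau U.1 a).trans (RingHom.mem_ker.1 ha)
  have hb' : (P.tau U.1 b).fst = 0 := (P.fst_tau U.1 b).trans (RingHom.mem_ker.1 hb)
  rw [map_mul, map_zero]
  refine TrivSqZeroExt.ext ?_ ?_
  · rw [TrivSqZeroExt.fst_mul, ha', zero_mul, TrivSqZeroExt.fst_zero]
  · rw [TrivSqZeroExt.snd_mul, ha', hb', zero_smul, TrivSqZeroExt.snd_zero]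
    simp

/-- The second component as a derivation. -/
def der : OmegaSh.Der P.str ((Scheme.Modules.pushforward P.emb).obj P.E) where
  d {U} := AddMonoidHom.mk' (fun t => (P.tau U.unop t).snd)
    (fun s t => by rw [map_add, TrivSqZeroExt.snd_add])
  d_mul {U} s t := by
    show (P.tau U.unop (s * t)).snd =
      P.emb.app U.unop s • (P.tau U.unop t).snd + P.emb.app U.unop t • (P.tau U.unop s).snd
    rw [map_mul, TrivSqZeroExt.snd_mul, P.fst_tau, P.fst_tau]
    rfl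
  d_map {U U'} j s := by
    show (P.tau U'.unop (fres P.obj j.unop.le s)).snd = mres P.E (P.emb.preimage_mono j.unop.le) (P.tau U.unop s).snd
    rw [tau_res, snd_resE]
  d_app {W} r := by
    show (P.tau (P.str ⁻¹ᵁ W.unop) (P.str.app W.unop r)).snd = 0
    rw [tau_str, TrivSqZeroExt.snd_inl]

variable {Ω₁ : P.obj.Modules} {d₁ : OmegaSh.Der P.str Ω₁} (hd₁ : OmegaSh.IsUniversal d₁)

/-- The comparison with the middle term. -/
def psiMid : (Scheme.Modules.pullback P.emb).obj Ω₁ ⟶ P.E :=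
  ((Scheme.Modules.pullbackPushforwardAdjunction P.emb).homEquiv _ _).symm (hd₁ _ P.der).choose

theorem psiMid_pullSect (U : P.obj.Opens) (s : Γ(P.obj, U)) :
    (P.psiMid hd₁).app (P.emb ⁻¹ᵁ U) (OmegaSh.pullSect P.emb Ω₁ U (d₁.app U s)) = (P.tau U s).snd := by
  let adj := Scheme.Modules.pullbackPushforwardAdjunction P.emb
  refine (congr($((adj.homEquiv_unit _ _ (P.psiMid hd₁)).symm.trans
    (Equiv.apply_symm_apply (adj.homEquiv _ _) _)).app U (d₁.app U s))).trans ?_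
  exact PresheafOfModules.Derivation.congr_d (hd₁ _ P.der).choose_spec.1 (X := op U) s

include hd₁ in
theorem psiMid_q (c : (Scheme.Modules.pullback P.emb).obj Ω₁ ⟶ P.Ω) (hc : OmegaSh.IsDiffCompat P.emb d₁ P.d c) :
    P.psiMid hd₁ ≫ P.q = c := by
  let adj := Scheme.Modules.pullbackPushforwardAdjunction P.emb
  refine (adj.homEquiv _ _).injective (PPGen.hom_ext_universal hd₁ _ _ fun U s => ?_)
  refine (congr($(adj.homEquiv_unit _ _ (P.psiMid hd₁ ≫ P.q)).app U (d₁.app U s))).trans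
    (Eq.trans ?_ (congr($(adj.homEquiv_unit _ _ c).app U (d₁.app U s))).symm)
  show P.q.app (P.emb ⁻¹ᵁ U) ((P.psiMid hd₁).app _ (OmegaSh.pullSect P.emb Ω₁ U (d₁.app U s))) =
    c.app _ (OmegaSh.pullSect P.emb Ω₁ U (d₁.app U s))
  rw [psiMid_pullSect, hc U s]
  exact P.q_snd_tau U s

theorem exists_preimage_eq (W : D.Opens) : ∃ V : P.obj.Opens, P.emb ⁻¹ᵁ V = W := by
  obtain ⟨O, hO, hOW⟩ := P.emb.isClosedEmbedding.isInducing.isOpen_iff.1 W.2
  exact ⟨⟨O, hO⟩, Opens.ext hOW⟩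

include hd₁ in
theorem exists_theta (φ : Omega.conormal P.emb ⟶ (Scheme.Modules.pullback P.emb).obj Ω₁)
    (hφ : OmegaSh.IsConormalDiff P.emb d₁ φ) (c : (Scheme.Modules.pullback P.emb).obj Ω₁ ⟶ P.Ω)
    (hc : OmegaSh.IsDiffCompat P.emb d₁ P.d c) :
    ∃ θ : Omega.conormal P.emb ≅ P.L, θ.hom ≫ P.f = φ ≫ P.psiMid hd₁ := by
  haveI : Mono (ShortComplex.mk P.f P.q P.w).f := P.hS.mono_f
  have h0 : (φ ≫ P.psiMid hd₁) ≫ P.q = 0 := by
    rw [Category.assoc, psiMid_q P hd₁ c hc, conormal_comp_eq_zero' P.str P.emb φ hφ c hc]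
  let θ : Omega.conormal P.emb ⟶ P.L := P.hS.exact.lift (φ ≫ P.psiMid hd₁) h0
  have hθ : θ ≫ P.f = φ ≫ P.psiMid hd₁ := P.hS.exact.lift_f _ _
  have hval : ∀ (V : P.obj.Opens) (m : Γ(ClSub.idealMod P.emb.ker, V)),
      P.f.app _ (θ.app _ (OmegaSh.conormalSect P.emb V m)) = (P.tau V (OmegaSh.idealSect P.emb.ker V m)).snd := by
    intro V m
    refine (congr($(hθ).app (P.emb ⁻¹ᵁ V) (OmegaSh.conormalSect P.emb V m))).trans ?_
    show (P.psiMid hd₁).app _ (φ.app _ (OmegaSh.conormalSect P.emb V m)) = _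
    rw [hφ V m, psiMid_pullSect]
  haveI : IsIso θ := by
    rw [Scheme.Modules.Hom.isIso_iff_isIso_app]
    intro W
    obtain ⟨V, rfl⟩ := P.exists_preimage_eq W
    refine (ConcreteCategory.isIso_iff_bijective _).2 ⟨fun a b h => ?_, fun l => ?_⟩
    · obtain ⟨m, rfl⟩ := (SqZero11.conormalSect_bijective P.emb P.ker_sq V).2 a
      obtain ⟨n, rfl⟩ := (SqZero11.conormalSect_bijective P.emb P.ker_sq V).2 b
      have h1 := congrArg (P.f.app _) h
      rw [hval, hval] at h1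
      refine congrArg (OmegaSh.conormalSect P.emb V) (IdealModSec.val_injective _ _ (P.tau_injective V ?_))
      refine TrivSqZeroExt.ext ?_ h1
      rw [P.fst_tau, P.fst_tau]
      exact (H1Sheaf6.app_val_eq_zero P.emb V m).trans (H1Sheaf6.app_val_eq_zero P.emb V n).symm
    · obtain ⟨t, ht⟩ := P.exists_tau V (TrivSqZeroExt.inr (P.f.app _ l)) (by
        rw [TrivSqZeroExt.snd_inr, TrivSqZeroExt.fst_inr, map_zero]
        exact congr($(P.w).app (P.emb ⁻¹ᵁ V) l))
      obtain ⟨m, rfl⟩ := SqZero11.exists_idealSect P.emb V t (by rw [← P.fst_tau, ht, TrivSqZeroExt.fst_inr])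
      refine ⟨OmegaSh.conormalSect P.emb V m, P.app_f_injective _ ?_⟩
      rw [hval, ht, TrivSqZeroExt.snd_inr]
  exact ⟨asIso θ, hθ⟩

include hd₁ in
/-- The restricted cotangent sequence is the given extension. -/
theorem exists_seq [HasExt.{w} D.Modules] (hd : OmegaSh.IsUniversal P.d) :
    ∃ (φ : Omega.conormal P.emb ⟶ (Scheme.Modules.pullback P.emb).obj Ω₁) (hφ : OmegaSh.IsConormalDiff P.emb d₁ φ)
      (c : (Scheme.Modules.pullback P.emb).obj Ω₁ ⟶ P.Ω) (hc : OmegaSh.IsDiffCompat P.emb d₁ P.d c)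
      (hw : φ ≫ c = 0) (hS : (ShortComplex.mk φ c hw).ShortExact) (θ : Omega.conormal P.emb ≅ P.L),
      hS.extClass.comp (Abelian.Ext.mk₀ θ.hom) (add_zero 1) = P.hS.extClass := by
  have hex : ∀ (j : D ⟶ S) (dj : OmegaSh.Der j P.Ω), OmegaSh.IsUniversal dj → P.emb ≫ P.str = j →
      ∃ c : (Scheme.Modules.pullback P.emb).obj Ω₁ ⟶ P.Ω, OmegaSh.IsDiffCompat P.emb d₁ dj c ∧
        ∀ (φ : Omega.conormal P.emb ⟶ (Scheme.Modules.pullback P.emb).obj Ω₁),
          OmegaSh.IsConormalDiff P.emb d₁ φ → ∀ w : φ ≫ c = 0, (ShortComplex.mk φ c w).Exact ∧ Epi c := by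
    rintro j dj hj rfl
    obtain ⟨c, hc, -⟩ := OmegaLocal4.existsUnique_compat P.emb (𝟙 S) (by rw [Category.comp_id]) d₁ hd₁ dj
    exact ⟨c, hc, fun φ hφ w => exact_and_epi_diffCompat P.str P.emb hd₁ hj φ hφ c hc w⟩
  obtain ⟨c, hc, hex⟩ := hex pD P.d hd P.emb_str
  let φ := ConStalk4.conormalDiff P.emb d₁
  have hφ := ConStalk4.isConormalDiff_conormalDiff P.emb d₁
  have hw : φ ≫ c = 0 := conormal_comp_eq_zero' P.str P.emb φ hφ c hc
  obtain ⟨θ, hθ⟩ := P.exists_theta hd₁ φ hφ c hc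
  haveI : Mono P.f := P.hS.mono_f
  haveI : Mono φ := by
    haveI : Mono (φ ≫ P.psiMid hd₁) := by rw [← hθ]; infer_instance
    exact mono_of_mono φ (P.psiMid hd₁)
  obtain ⟨hE, hepi⟩ := hex φ hφ hw
  have hS : (ShortComplex.mk φ c hw).ShortExact := { exact := hE }
  refine ⟨φ, hφ, c, hc, hw, hS, θ, ?_⟩
  let F : ShortComplex.mk φ c hw ⟶ ShortComplex.mk P.f P.q P.w :=
    { τ₁ := θ.hom
      τ₂ := P.psiMid hd₁
      τ₃ := 𝟙 P.Ω
      comm₁₂ := hθ
      comm₂₃ := (psiMid_q P hd₁ c hc).trans (Category.comp_id c).symm }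
  exact (ShortComplex.ShortExact.extClass_naturality hS P.hS F).trans (Abelian.Ext.mk₀_id_comp _)

end Data

end GrothLib.RibExt10
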