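import Groth.Agent.Lib.Ribbon10.Main
import Groth.Agent.Lib.SqZero11.Lift
import Groth.Agent.Lib.AffAlg8.Hom
import Groth.Agent.Lib.QCoh.Extension

/-!
# Maps of split square-zero extensions
-/

set_option autoImplicit false
set_option linter.all false
set_option backward.isDefEq.respectTransparency false
set_option maxHeartbeats 1000000

universe u

open CategoryTheory CategoryTheory.Limits AlgebraicGeometry TopologicalSpace Opposite
open GrothLib.InvExt

noncomputable section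

namespace GrothLib.RibExt10

open GrothLib.Ribbon10

variable {X : Scheme.{u}}

section Map

variable {M N : X.Modules} (f : M ⟶ N) (hM : M.IsQuasicoherent) (hN : N.IsQuasicoherent)

/-- The map `O ⊕ M → O ⊕ N`. -/
def mapE (U : X.Opens) : Ribbon10.E M U →+* Ribbon10.E N U where
  toFun t := (t.fst, f.app U t.snd)
  map_one' := TrivSqZeroExt.ext rfl (map_zero _)
  map_zero' := TrivSqZeroExt.ext rfl (map_zero _)
  map_add' a b := TrivSqZeroExt.ext rfl (map_add _ _ _)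
  map_mul' a b := TrivSqZeroExt.ext rfl
    (show f.app U (a.fst • b.snd + b.fst • a.snd) = a.fst • f.app U b.snd + b.fst • f.app U a.snd from
      (map_add _ _ _).trans (congrArg₂ (· + ·) (Scheme.Modules.Hom.app_smul _ _ _)
        (Scheme.Modules.Hom.app_smul _ _ _)))

theorem fst_mapE (U : X.Opens) (t : Ribbon10.E M U) : (mapE f U t).fst = t.fst := rfl

theorem snd_mapE (U : X.Opens) (t : Ribbon10.E M U) : (mapE f U t).snd = f.app U t.snd := rfl

/-- The map of presheaves. -/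
def mapPre : pre M ⟶ pre N where
  app U := CommRingCat.ofHom (mapE f U.unop)
  naturality U V i := CommRingCat.hom_ext (RingHom.ext fun t => TrivSqZeroExt.ext rfl
    (ConcreteCategory.congr_hom (f.mapPresheaf.naturality i) t.snd))

theorem exists_map : ∃ (J : C N hN ⟶ C M hM) (w : J ≫ pr M hM = pr N hN),
    ∀ (U : X.Opens) (e : pr N hN ⁻¹ᵁ U ≤ J ⁻¹ᵁ (pr M hM ⁻¹ᵁ U)) (t : Γ(C M hM, pr M hM ⁻¹ᵁ U)),
      gam N hN U (J.appLE (pr M hM ⁻¹ᵁ U) (pr N hN ⁻¹ᵁ U) e t) = mapE f U (gam M hM U t) := by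
  haveI := RLpsi8.isIso_gammaMap (alg N hN)
  let ν : (alg M hM).presheaf ⟶ (alg N hN).presheaf := mapPre f
  obtain ⟨J, w, hJ⟩ := GrothLib.AffAlg8.exists_hom (RelSpec.QCAlg.π (alg M hM)) (RelSpec.QCAlg.π (alg N hN))
    ((alg M hM).gammaMap ≫ ν ≫ inv (alg N hN).gammaMap) (by
      rw [reassoc_of% (alg M hM).π_c_gammaMap,
        show (alg M hM).str ≫ ν ≫ inv (alg N hN).gammaMap = (alg N hN).str ≫ inv (alg N hN).gammaMap from ?_]
      · rw [IsIso.comp_inv_eq]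
        exact (alg N hN).π_c_gammaMap.symm
      · rw [← Category.assoc]
        congr 1
        exact NatTrans.ext (funext fun U => CommRingCat.hom_ext (RingHom.ext fun r =>
          TrivSqZeroExt.ext rfl (map_zero _))))
  refine ⟨J, w, fun U e t => ?_⟩
  have h := ConcreteCategory.congr_hom
    ((GrothLib.AffAlg8.algHom_app _ _ J w U).symm.trans (congrArg (fun g => g.app (op U)) hJ)) t
  refine (congrArg (gam N hN U) h).trans ?_
  show ((inv (alg N hN).gammaMap ≫ (alg N hN).gammaMap).app (op U)).hom (mapE f U (gam M hM U t)) = _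
  rw [IsIso.inv_hom_id]
  rfl

/-- The induced morphism. -/
def cmap : C N hN ⟶ C M hM := (exists_map f hM hN).choose

theorem cmap_pr : cmap f hM hN ≫ pr M hM = pr N hN := (exists_map f hM hN).choose_spec.choose

theorem gam_cmap (U : X.Opens) (e : pr N hN ⁻¹ᵁ U ≤ cmap f hM hN ⁻¹ᵁ (pr M hM ⁻¹ᵁ U))
    (t : Γ(C M hM, pr M hM ⁻¹ᵁ U)) :
    gam N hN U ((cmap f hM hN).appLE (pr M hM ⁻¹ᵁ U) (pr N hN ⁻¹ᵁ U) e t) = mapE f U (gam M hM U t) :=
  (exists_map f hM hN).choose_spec.choose_spec U e t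

theorem cmap_preimage (U : X.Opens) : cmap f hM hN ⁻¹ᵁ (pr M hM ⁻¹ᵁ U) = pr N hN ⁻¹ᵁ U := by
  rw [← Scheme.Hom.comp_preimage, cmap_pr]

theorem sec_cmap : sec N hN ≫ cmap f hM hN = sec M hM := by
  refine AffAlg8.hom_ext (pr M hM) (𝟙 X) (by rw [Category.assoc, cmap_pr, sec_pr]) (sec_pr M hM) ?_
  ext U t
  rw [AffAlg8.algHom_app, AffAlg8.algHom_app]
  have key : ∀ e : U ≤ (sec N hN ≫ cmap f hM hN) ⁻¹ᵁ (pr M hM ⁻¹ᵁ U),
      (sec N hN ≫ cmap f hM hN).appLE (pr M hM ⁻¹ᵁ U) U e t =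
        (sec M hM).appLE (pr M hM ⁻¹ᵁ U) U (sec_preimage M hM U).ge t := by
    intro e
    rw [← Scheme.Hom.appLE_comp_appLE (sec N hN) (cmap f hM hN) _ (pr N hN ⁻¹ᵁ U) _
    (cmap_preimage f hM hN U).ge (sec_preimage N hN U).ge]
    exact (sec_appLE N hN U (sec_preimage N hN U).ge _).trans
      (((congrArg TrivSqZeroExt.fst (gam_cmap f hM hN U (cmap_preimage f hM hN U).ge t)).trans (fst_mapE f U _)).trans
        (sec_appLE M hM U (sec_preimage M hM U).ge t).symm)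
  exact key _

theorem surjective_sec : Function.Surjective (sec M hM) :=
  (SqZero11.isHomeomorph_base (sec M hM) (ker_sq M hM)).surjective

theorem surjective_cmap : Function.Surjective (cmap f hM hN) := fun x => by
  obtain ⟨y, rfl⟩ := surjective_sec hM x
  exact ⟨sec N hN y, congr($(sec_cmap f hM hN) y)⟩

theorem isClosedImmersion_cmap (hf : ∀ U : X.Opens, IsAffineOpen U → Function.Surjective (f.app U)) :
    IsClosedImmersion (cmap f hM hN) := by
  haveI : IsAffineHom (cmap f hM hN) := by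
    haveI : IsAffineHom (cmap f hM hN ≫ pr M hM) := by rw [cmap_pr]; infer_instance
    exact IsAffineHom.of_comp (cmap f hM hN) (pr M hM)
  refine isClosedImmersion_iff_isAffineHom.2 ⟨inferInstance, fun V hV => ?_⟩
  have hVU : V = pr M hM ⁻¹ᵁ (sec M hM ⁻¹ᵁ V) := by
    refine Opens.ext (Set.ext fun x => ?_)
    obtain ⟨y, rfl⟩ := surjective_sec hM x
    show sec M hM y ∈ V ↔ sec M hM (pr M hM (sec M hM y)) ∈ V
    rw [show pr M hM (sec M hM y) = y from congr($(sec_pr M hM) y)]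
  have hU : IsAffineOpen (sec M hM ⁻¹ᵁ V) := hV.preimage (sec M hM)
  rw [hVU]
  generalize sec M hM ⁻¹ᵁ V = U at hU ⊢
  intro s
  obtain ⟨m, hm⟩ := hf U hU (gam N hN U (fres _ (cmap_preimage f hM hN U).ge s)).snd
  obtain ⟨t, ht⟩ := (gam_bijective M hM U).2
    ((((gam N hN U (fres _ (cmap_preimage f hM hN U).ge s)).fst, m) : Ribbon10.E M U))
  refine ⟨t, ?_⟩
  have h := gam_cmap f hM hN U (cmap_preimage f hM hN U).ge t
  rw [ht] at h
  have h2 : fres _ (cmap_preimage f hM hN U).ge ((cmap f hM hN).app (pr M hM ⁻¹ᵁ U) t) =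
      fres _ (cmap_preimage f hM hN U).ge s :=
    (gam_bijective N hN U).1 (h.trans (TrivSqZeroExt.ext rfl hm))
  have h3 := congrArg (fres _ (cmap_preimage f hM hN U).le) h2
  rwa [fres_fres, fres_fres, fres_self, fres_self] at h3

end Map

section Twist

variable {S : Scheme.{u}} {pX : X ⟶ S} {Ω : X.Modules} (d : OmegaSh.Der pX Ω) (hΩ : Ω.IsQuasicoherent)

/-- `a ↦ (a, d a)`. -/
def jet (U : X.Opens) : Γ(X, U) →+* Ribbon10.E Ω U where
  toFun a := (a, d.app U a)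
  map_one' := TrivSqZeroExt.ext rfl (d.d_one (op U))
  map_zero' := TrivSqZeroExt.ext rfl (map_zero _)
  map_add' a b := TrivSqZeroExt.ext rfl (map_add _ _ _)
  map_mul' a b := TrivSqZeroExt.ext rfl
    (show d.app U (a * b) = a • d.app U b + b • d.app U a from d.d_mul (X := op U) a b)

theorem jet_res {U V : X.Opens} (h : V ≤ U) (a : Γ(X, U)) :
    jet d V (fres X h a) = resE Ω h (jet d U a) :=
  TrivSqZeroExt.ext rfl (d.d_map (homOfLE h).op a)

/-- The functions pulled back along the twist. -/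
def twistApp (U : X.Opens) : Γ(X, U) →+* Γ(C Ω hΩ, pr Ω hΩ ⁻¹ᵁ U) :=
  (RingEquiv.ofBijective (gam Ω hΩ U) (gam_bijective Ω hΩ U)).symm.toRingHom.comp (jet d U)

theorem gam_twistApp (U : X.Opens) (a : Γ(X, U)) : gam Ω hΩ U (twistApp d hΩ U a) = jet d U a :=
  (RingEquiv.ofBijective (gam Ω hΩ U) (gam_bijective Ω hΩ U)).apply_symm_apply _

theorem exists_twist : ∃ g : C Ω hΩ ⟶ X, (∀ x, g x = pr Ω hΩ x) ∧
    (∀ (U : X.Opens) (e : pr Ω hΩ ⁻¹ᵁ U ≤ g ⁻¹ᵁ U) (a : Γ(X, U)),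
      gam Ω hΩ U (g.appLE U (pr Ω hΩ ⁻¹ᵁ U) e a) = jet d U a) ∧
    g ≫ pX = pr Ω hΩ ≫ pX := by
  let b := (pr Ω hΩ).base
  let gc : X.presheaf ⟶ (TopCat.Presheaf.pushforward CommRingCat b).obj (C Ω hΩ).presheaf :=
    { app := fun U => CommRingCat.ofHom (twistApp d hΩ U.unop)
      naturality := fun U U' j => by
        ext r
        show twistApp d hΩ U'.unop (fres X j.unop.le r) =
          fres (C Ω hΩ) ((pr Ω hΩ).preimage_mono j.unop.le) (twistApp d hΩ U.unop r)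
        refine (gam_bijective Ω hΩ U'.unop).1 ?_
        rw [gam_res Ω hΩ j.unop.le, gam_twistApp, gam_twistApp, jet_res] }
  let psh : (C Ω hΩ).toPresheafedSpace.Hom X.toPresheafedSpace := ⟨b, gc⟩
  have hloc : ∀ x : C Ω hΩ, IsLocalHom (psh.stalkMap x).hom := fun x => ⟨fun v hv => by
    obtain ⟨U, hxU, r, rfl⟩ := TopCat.Presheaf.exists_germ_eq X.presheaf v
    erw [PresheafedSpace.stalkMap_germ_apply] at hv
    obtain ⟨y, rfl⟩ := surjective_sec hΩ x
    have hy : pr Ω hΩ (sec Ω hΩ y) = y := congr($(sec_pr Ω hΩ) y)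
    have h1 : sec Ω hΩ y ∈ (C Ω hΩ).basicOpen (twistApp d hΩ U r) :=
      ((C Ω hΩ).mem_basicOpen _ (sec Ω hΩ y) hxU).2 hv
    have h2 : y ∈ X.basicOpen ((sec Ω hΩ).app _ (twistApp d hΩ U r)) := by
      rw [← Scheme.preimage_basicOpen]; exact h1
    have h3 : fres X (sec_preimage Ω hΩ U).ge ((sec Ω hΩ).app _ (twistApp d hΩ U r)) = r := by
      refine (sec_appLE Ω hΩ U (sec_preimage Ω hΩ U).ge _).trans ?_
      rw [gam_twistApp]
      rfl
    have hyU : y ∈ U := hy ▸ hxU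
    have h4 : y ∈ X.basicOpen (fres X (sec_preimage Ω hΩ U).ge ((sec Ω hΩ).app _ (twistApp d hΩ U r))) := by
      rw [InvExt.fres, Scheme.basicOpen_res]
      exact ⟨hyU, h2⟩
    rw [h3] at h4
    exact (X.mem_basicOpen r _ hxU).1 (show pr Ω hΩ (sec Ω hΩ y) ∈ X.basicOpen r by rw [hy]; exact h4)⟩
  let g : C Ω hΩ ⟶ X := ⟨⟨psh, hloc⟩⟩
  have happ : ∀ (U : X.Opens) (a : Γ(X, U)), g.app U a = twistApp d hΩ U a := fun U a => rfl
  refine ⟨g, fun x => rfl, fun U e a => ?_, ?_⟩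
  · show gam Ω hΩ U ((C Ω hΩ).presheaf.map (homOfLE e).op (g.app U a)) = _
    rw [happ]
    exact (congrArg _ (fres_self _)).trans (gam_twistApp d hΩ U a)
  · have hbase : (g ≫ pX).base = (pr Ω hΩ ≫ pX).base := rfl
    refine Scheme.Hom.ext hbase fun W => ?_
    ext r
    refine (gam_bijective Ω hΩ (pX ⁻¹ᵁ W)).1 ?_
    refine Eq.trans ?_ ((gam_app Ω hΩ (pX ⁻¹ᵁ W) (pX.app W r))).symm
    refine (congrArg (gam Ω hΩ _) (show _ = twistApp d hΩ (pX ⁻¹ᵁ W) (pX.app W r) from fres_self _)).trans ?_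
    rw [gam_twistApp]
    exact TrivSqZeroExt.ext rfl (d.d_app (X := op W) r)

/-- The twisted morphism. -/
def twist : C Ω hΩ ⟶ X := (exists_twist d hΩ).choose

theorem twist_apply (x : C Ω hΩ) : twist d hΩ x = pr Ω hΩ x := (exists_twist d hΩ).choose_spec.1 x

theorem twist_preimage (U : X.Opens) : twist d hΩ ⁻¹ᵁ U = pr Ω hΩ ⁻¹ᵁ U :=
  Opens.ext (Set.ext fun x => by
    show twist d hΩ x ∈ U ↔ pr Ω hΩ x ∈ U
    rw [twist_apply])

theorem gam_twist (U : X.Opens) (e : pr Ω hΩ ⁻¹ᵁ U ≤ twist d hΩ ⁻¹ᵁ U) (a : Γ(X, U)) :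
    gam Ω hΩ U ((twist d hΩ).appLE U (pr Ω hΩ ⁻¹ᵁ U) e a) = jet d U a :=
  (exists_twist d hΩ).choose_spec.2.1 U e a

theorem twist_base_comp : twist d hΩ ≫ pX = pr Ω hΩ ≫ pX := (exists_twist d hΩ).choose_spec.2.2

instance : IsAffineHom (twist d hΩ) :=
  ⟨fun U hU => by rw [twist_preimage]; exact hU.preimage (pr Ω hΩ)⟩

theorem sec_twist : sec Ω hΩ ≫ twist d hΩ = 𝟙 X := by
  have hU : ∀ U : X.Opens, (sec Ω hΩ ≫ twist d hΩ) ⁻¹ᵁ U = U := fun U => by
    rw [Scheme.Hom.comp_preimage, twist_preimage, sec_preimage]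
  refine Scheme.Hom.ext ?_ fun U => ?_
  · refine TopCat.hom_ext (ContinuousMap.ext fun y => ?_)
    show twist d hΩ (sec Ω hΩ y) = y
    rw [twist_apply]
    exact congr($(sec_pr Ω hΩ) y)
  · ext a
    have e1 : (sec Ω hΩ ≫ twist d hΩ).appLE U U (hU U).ge a = a := by
      rw [← Scheme.Hom.appLE_comp_appLE (sec Ω hΩ) (twist d hΩ) _ (pr Ω hΩ ⁻¹ᵁ U) _
        (twist_preimage d hΩ U).ge (sec_preimage Ω hΩ U).ge]
      exact (sec_appLE Ω hΩ U (sec_preimage Ω hΩ U).ge _).trans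
        (congrArg TrivSqZeroExt.fst (gam_twist d hΩ U (twist_preimage d hΩ U).ge a))
    exact e1

end Twist

end GrothLib.RibExt10
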