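import Groth.Agent.Lib.RibExt10.Main
import Groth.Agent.Lib.RelProjK.Local

/-!
# Square-zero thickenings with invertible conormal sheaf
-/

set_option autoImplicit false
set_option linter.all false
set_option backward.isDefEq.respectTransparency false
set_option maxHeartbeats 1000000

universe u

open CategoryTheory CategoryTheory.Limits AlgebraicGeometry TopologicalSpace Opposite

noncomputable section

namespace GrothLib.RibExt10

theorem isPrincipalOfOrder_of_conormal {D C : Scheme.{u}} (i : D ⟶ C) [IsClosedImmersion i]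
    (hI : i.ker ^ 2 = ⊥) (h : PicF.IsInvertible (Omega.conormal i)) : MultCurve.IsPrincipalOfOrder i.ker 2 := by
  refine SqZero11.isPrincipal_of_isInvertible i.ker hI ?_
  have hker : i.ker.subschemeι.ker = i.ker := Scheme.IdealSheafData.ker_subschemeι _
  have hι : i.ker.subschemeι = inv i.toImage ≫ i :=
    (IsIso.eq_inv_comp _).2 i.toImage_imageι
  have h1 := RelProjK.isInvertible_pullback (inv i.toImage) h
  refine RelProjK.isInvertible_of_iso ?_ h1
  exact (Scheme.Modules.pullbackCongr hι).app _ ≪≫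
    ((Scheme.Modules.pullbackComp (inv i.toImage) i).app _).symm ≪≫
      (Scheme.Modules.pullback (inv i.toImage)).mapIso
        ((Scheme.Modules.pullback i).mapIso (eqToIso (by rw [hker])))

theorem finiteType_of_square_zero {R A B : Type u} [CommRing R] [CommRing A] [CommRing B] (ρ : R →+* A)
    (π : A →+* B) (hπ : Function.Surjective π) (h : (π.comp ρ).FiniteType) (z : A) (hzπ : π z = 0) (hzz : z * z = 0)
    (hz : ∀ a, π a = 0 → ∃ b, b * z = a) : ρ.FiniteType := by
  classical
  algebraize [ρ, π, π.comp ρ]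
  haveI : Algebra.FiniteType R B := h
  obtain ⟨s, hs⟩ := (inferInstance : Algebra.FiniteType R B).out
  choose g hg using hπ
  refine ⟨⟨insert z (s.image g), ?_⟩⟩
  set T := Algebra.adjoin R (↑(insert z (s.image g)) : Set A) with hT
  have hlift : ∀ a : A, ∃ a' ∈ T, π (a - a') = 0 := by
    intro a
    have ha : π a ∈ T.map (IsScalarTower.toAlgHom R A B) := by
      refine (le_trans (hs.ge) (Algebra.adjoin_le ?_) : (⊤ : Subalgebra R B) ≤ _) Algebra.mem_top
      intro b hb
      exact ⟨g b, Algebra.subset_adjoin (Finset.mem_coe.2 (Finset.mem_insert_of_mem (Finset.mem_image_of_mem g hb))),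
        hg b⟩
    obtain ⟨a', ha', h'⟩ := ha
    exact ⟨a', ha', by rw [map_sub, sub_eq_zero]; exact h'.symm⟩
  refine eq_top_iff.2 fun a _ => ?_
  obtain ⟨a', ha', h1⟩ := hlift a
  obtain ⟨b, hb⟩ := hz _ h1
  obtain ⟨b', hb', h2⟩ := hlift b
  obtain ⟨e, he⟩ := hz _ h2
  have : a = a' + b' * z := by
    have h3 : (b - b') * z = 0 := by rw [← he, mul_assoc, hzz, mul_zero]
    rw [sub_mul, hb] at h3
    linear_combination h3
  rw [this]
  exact add_mem ha' (mul_mem hb' (Algebra.subset_adjoin (Finset.mem_coe.2 (Finset.mem_insert_self _ _))))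

theorem locallyOfFiniteType_of_isPrincipal {D C S : Scheme.{u}} [IsAffine S] (i : D ⟶ C) [IsClosedImmersion i]
    (hI : i.ker ^ 2 = ⊥) (hP : MultCurve.IsPrincipalOfOrder i.ker 2) (p : C ⟶ S)
    [LocallyOfFiniteType (i ≫ p)] : LocallyOfFiniteType p := by
  rw [HasRingHomProperty.iff_exists_appLE (P := @LocallyOfFiniteType)
    (RingHom.finiteType_stableUnderComposition.stableUnderCompositionWithLocalizationAway
      RingHom.finiteType_holdsForLocalizationAway).1]
  intro x
  obtain ⟨U, hxU, z, hz, -⟩ := hP x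
  refine ⟨⟨⊤, isAffineOpen_top S⟩, U, hxU, fun _ _ => trivial, ?_⟩
  have hft := HasRingHomProperty.appLE @LocallyOfFiniteType (i ≫ p) inferInstance ⟨⊤, isAffineOpen_top S⟩
    ⟨i ⁻¹ᵁ U.1, U.2.preimage i⟩ (fun _ _ => trivial)
  rw [← Scheme.Hom.appLE_comp_appLE i p ⊤ U.1 (i ⁻¹ᵁ U.1) (fun _ _ => trivial) le_rfl] at hft
  have hmem : ∀ a, (i.appLE U.1 (i ⁻¹ᵁ U.1) le_rfl).hom a = 0 ↔ a ∈ i.ker.ideal U := by
    intro a
    rw [Scheme.Hom.ker_apply, RingHom.mem_ker, Scheme.Hom.app_eq_appLE]
  refine finiteType_of_square_zero _ (i.appLE U.1 (i ⁻¹ᵁ U.1) le_rfl).hom ?_ hft z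
    ((hmem z).2 (hz ▸ Ideal.mem_span_singleton_self z))
    (SqZero11.mul_eq_zero_of_mem i.ker hI U (hz ▸ Ideal.mem_span_singleton_self z) (hz ▸ Ideal.mem_span_singleton_self z)) ?_
  · rw [← Scheme.Hom.app_eq_appLE]
    exact i.app_surjective U.1 U.2
  · intro a ha
    have := (hmem a).1 ha
    rw [hz] at this
    exact Ideal.mem_span_singleton'.1 this

end GrothLib.RibExt10
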