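import Groth.Agent.Lib.RibExt10.Maps
import Groth.Agent.Lib.Pushout6.Exists
import Groth.Agent.Lib.Pushout6.BaseChange

/-!
# The ribbon of an extension of differentials
-/

set_option autoImplicit false
set_option linter.all false
set_option backward.isDefEq.respectTransparency false
set_option maxHeartbeats 1000000

universe u

open CategoryTheory CategoryTheory.Limits AlgebraicGeometry TopologicalSpace Opposite
open GrothLib.InvExt

noncomputable section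

namespace GrothLib.RibExt10

open GrothLib.Ribbon10

/-- An extension of a sheaf of differentials by a quasi-coherent module. -/
structure Data (D S : Scheme.{u}) (pD : D ⟶ S) where
  {L E Ω : D.Modules}
  f : L ⟶ E
  q : E ⟶ Ω
  w : f ≫ q = 0
  hS : (ShortComplex.mk f q w).ShortExact
  qL : L.IsQuasicoherent
  qE : E.IsQuasicoherent
  qΩ : Ω.IsQuasicoherent
  d : OmegaSh.Der pD Ω

namespace Data

variable {D S : Scheme.{u}} {pD : D ⟶ S} (P : Data D S pD)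

theorem app_f_injective (U : D.Opens) : Function.Injective (P.f.app U) := by
  haveI : Mono P.f := P.hS.mono_f
  exact Cohom.app_injective_of_mono P.f U

theorem app_q_surjective (U : D.Opens) (hU : IsAffineOpen U) : Function.Surjective (P.q.app U) := by
  haveI : (ShortComplex.mk P.f P.q P.w).X₁.IsQuasicoherent := P.qL
  exact GrothLib.QCoh.app_surjective_of_isAffineOpen P.hS hU

theorem exists_f_eq (U : D.Opens) (m : Γ(P.E, U)) (h : P.q.app U m = 0) : ∃ l, P.f.app U l = m := by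
  obtain ⟨k, hk⟩ := (IdealModSec.app_kernel P.q U).2 m h
  haveI : Mono (ShortComplex.mk P.f P.q P.w).f := P.hS.mono_f
  let L := P.hS.exact.fIsKernel
  let e : P.L ≅ kernel P.q := IsLimit.conePointUniqueUpToIso L (limit.isLimit _)
  have he : e.hom ≫ kernel.ι P.q = P.f :=
    IsLimit.conePointUniqueUpToIso_hom_comp L (limit.isLimit _) WalkingParallelPair.zero
  obtain ⟨k', rfl⟩ := (ConcreteCategory.bijective_of_isIso (e.hom.app U)).2 k
  exact ⟨k', by rw [← hk, ← he]; rfl⟩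

/-- The closed immersion between the split extensions. -/
abbrev jmap : C P.Ω P.qΩ ⟶ C P.E P.qE := cmap P.q P.qE P.qΩ

instance : IsClosedImmersion P.jmap := isClosedImmersion_cmap P.q P.qE P.qΩ P.app_q_surjective

theorem covered : Pushout6.Covered P.jmap (twist P.d P.qΩ) :=
  Pushout6.covered_of_thickening _ _ (surjective_cmap P.q P.qE P.qΩ)

/-- The scheme of the extension. -/
def obj : Scheme.{u} := Pushout6.obj P.jmap (twist P.d P.qΩ)

/-- The map from the split extension. -/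
def inl : C P.E P.qE ⟶ P.obj := Pushout6.inl P.covered

/-- The reduced subscheme. -/
def emb : D ⟶ P.obj := Pushout6.inr P.covered

instance : IsClosedImmersion P.emb := Pushout6.isClosedImmersion_inr P.covered

theorem jmap_inl : P.jmap ≫ P.inl = twist P.d P.qΩ ≫ P.emb := Pushout6.condition P.covered

theorem sec_inl : sec P.E P.qE ≫ P.inl = P.emb := by
  rw [← sec_cmap P.q P.qE P.qΩ, Category.assoc]
  show sec P.Ω P.qΩ ≫ P.jmap ≫ P.inl = P.emb
  rw [jmap_inl, ← Category.assoc, sec_twist, Category.id_comp]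

theorem inl_preimage (V : P.obj.Opens) : P.inl ⁻¹ᵁ V = pr P.E P.qE ⁻¹ᵁ (P.emb ⁻¹ᵁ V) := by
  refine Opens.ext (Set.ext fun x => ?_)
  obtain ⟨y, rfl⟩ := surjective_sec P.qE x
  show P.inl (sec P.E P.qE y) ∈ V ↔ P.emb (pr P.E P.qE (sec P.E P.qE y)) ∈ V
  rw [show pr P.E P.qE (sec P.E P.qE y) = y from congr($(sec_pr P.E P.qE) y),
    show P.inl (sec P.E P.qE y) = P.emb y from congr($(P.sec_inl) y)]

theorem exists_desc : ∃ p : P.obj ⟶ S, P.inl ≫ p = pr P.E P.qE ≫ pD ∧ P.emb ≫ p = pD :=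
  Pushout6.exists_desc P.covered (pr P.E P.qE ≫ pD) pD
    (by rw [← Category.assoc, cmap_pr, twist_base_comp])

/-- The structure morphism. -/
def str : P.obj ⟶ S := P.exists_desc.choose

theorem inl_str : P.inl ≫ P.str = pr P.E P.qE ≫ pD := P.exists_desc.choose_spec.1

theorem emb_str : P.emb ≫ P.str = pD := P.exists_desc.choose_spec.2

/-- Functions as pairs. -/
def tau (V : P.obj.Opens) : Γ(P.obj, V) →+* Ribbon10.E P.E (P.emb ⁻¹ᵁ V) :=
  (gam P.E P.qE (P.emb ⁻¹ᵁ V)).comp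
    (P.inl.appLE V (pr P.E P.qE ⁻¹ᵁ (P.emb ⁻¹ᵁ V)) (P.inl_preimage V).ge).hom

theorem tau_apply (V : P.obj.Opens) (t : Γ(P.obj, V)) : P.tau V t =
    gam P.E P.qE (P.emb ⁻¹ᵁ V) (P.inl.appLE V (pr P.E P.qE ⁻¹ᵁ (P.emb ⁻¹ᵁ V)) (P.inl_preimage V).ge t) := rfl

theorem fst_tau (V : P.obj.Opens) (t : Γ(P.obj, V)) : (P.tau V t).fst = P.emb.app V t := by
  rw [tau_apply, ← sec_appLE P.E P.qE _ (sec_preimage P.E P.qE _).ge]
  have key : ∀ (a : D ⟶ P.obj) (h : a = P.emb) (e : P.emb ⁻¹ᵁ V ≤ a ⁻¹ᵁ V),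
      a.appLE V (P.emb ⁻¹ᵁ V) e t = P.emb.app V t := by
    rintro a rfl e
    rw [Scheme.Hom.app_eq_appLE]
  rw [← CommRingCat.comp_apply, Scheme.Hom.appLE_comp_appLE]
  exact key _ P.sec_inl _

theorem tau_res {V W : P.obj.Opens} (h : W ≤ V) (t : Γ(P.obj, V)) :
    P.tau W (fres P.obj h t) = resE P.E (P.emb.preimage_mono h) (P.tau V t) := by
  rw [tau_apply, tau_apply, ← gam_res P.E P.qE (P.emb.preimage_mono h)]
  refine congrArg (gam P.E P.qE _) ?_
  show ((P.obj.presheaf.map (homOfLE h).op) ≫ P.inl.appLE W _ _) t =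
    (P.inl.appLE V _ _ ≫ (C P.E P.qE).presheaf.map (homOfLE _).op) t
  rw [Scheme.Hom.map_appLE, Scheme.Hom.appLE_map]

theorem q_snd_tau (V : P.obj.Opens) (t : Γ(P.obj, V)) :
    P.q.app _ (P.tau V t).snd = P.d.app _ (P.emb.app V t) := by
  let U := P.emb ⁻¹ᵁ V
  have h1 := gam_cmap P.q P.qE P.qΩ U (cmap_preimage P.q P.qE P.qΩ U).ge
    (P.inl.appLE V (pr P.E P.qE ⁻¹ᵁ U) (P.inl_preimage V).ge t)
  have h2 := gam_twist P.d P.qΩ U (twist_preimage P.d P.qΩ U).ge (P.emb.app V t)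
  have key : ∀ (a b : C P.Ω P.qΩ ⟶ P.obj) (h : a = b) (ea : pr P.Ω P.qΩ ⁻¹ᵁ U ≤ a ⁻¹ᵁ V)
      (eb : pr P.Ω P.qΩ ⁻¹ᵁ U ≤ b ⁻¹ᵁ V), a.appLE V _ ea t = b.appLE V _ eb t := by
    rintro a b rfl ea eb; rfl
  rw [← CommRingCat.comp_apply, Scheme.Hom.appLE_comp_appLE] at h1
  rw [Scheme.Hom.app_eq_appLE, ← CommRingCat.comp_apply, Scheme.Hom.appLE_comp_appLE] at h2
  rw [key _ _ P.jmap_inl _ (by rw [← P.jmap_inl, Scheme.Hom.comp_preimage, P.inl_preimage, cmap_preimage])] at h1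
  have h3 := congrArg TrivSqZeroExt.snd (h1.symm.trans h2)
  rw [← Scheme.Hom.app_eq_appLE] at h3
  exact h3

theorem tau_str (W : S.Opens) (r : Γ(S, W)) :
    P.tau (P.str ⁻¹ᵁ W) (P.str.app W r) =
      TrivSqZeroExt.inl ((P.emb ≫ P.str).app W r) := by
  rw [tau_apply, Scheme.Hom.app_eq_appLE, ← CommRingCat.comp_apply, Scheme.Hom.appLE_comp_appLE]
  have hU : P.emb ⁻¹ᵁ (P.str ⁻¹ᵁ W) = pD ⁻¹ᵁ W := by rw [← Scheme.Hom.comp_preimage, P.emb_str]
  have key : ∀ (a : C P.E P.qE ⟶ S) (h : a = pr P.E P.qE ≫ pD)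
      (ea : pr P.E P.qE ⁻¹ᵁ (P.emb ⁻¹ᵁ (P.str ⁻¹ᵁ W)) ≤ a ⁻¹ᵁ W),
      a.appLE W _ ea r = (pr P.E P.qE).app _ (pD.appLE W (P.emb ⁻¹ᵁ (P.str ⁻¹ᵁ W)) hU.le r) := by
    rintro a rfl ea
    rw [Scheme.Hom.app_eq_appLE, ← CommRingCat.comp_apply, Scheme.Hom.appLE_comp_appLE]
  rw [key _ P.inl_str, gam_app]
  refine congrArg TrivSqZeroExt.inl ?_
  have key2 : ∀ (a : D ⟶ S) (h : a = pD) (ea : a ⁻¹ᵁ W ≤ pD ⁻¹ᵁ W),
      pD.appLE W (a ⁻¹ᵁ W) ea r = a.app W r := by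
    rintro a rfl ea
    rw [Scheme.Hom.app_eq_appLE]
  exact key2 _ P.emb_str hU.le

/-- Sections over the image of a chart. -/
theorem chart_range (c : Pushout6.Chart P.jmap (twist P.d P.qΩ)) :
    P.emb ⁻¹ᵁ (Pushout6.chartι c).opensRange = c.V ∧
      P.inl ⁻¹ᵁ (Pushout6.chartι c).opensRange = c.U :=
  ⟨Pushout6.preimage_inr P.covered c, Pushout6.preimage_inl P.covered c⟩

theorem appLE_fromSpec {T : Scheme.{u}} (m : T ⟶ P.obj) (c : Pushout6.Chart P.jmap (twist P.d P.qΩ))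
    {U : T.Opens} (hU : IsAffineOpen U) (φ : c.ring ⟶ Γ(T, U))
    (hfac : hU.fromSpec ≫ m = Spec.map φ ≫ Pushout6.chartι c)
    (e : U ≤ m ⁻¹ᵁ (Pushout6.chartι c).opensRange)
    (t : Γ(P.obj, (Pushout6.chartι c).opensRange)) (x : c.ring)
    (ht : (Pushout6.chartι c).appLE (Pushout6.chartι c).opensRange ⊤ (fun w _ => ⟨w, rfl⟩) t =
      (Scheme.ΓSpecIso c.ring).inv x) :
    m.appLE _ U e t = φ x := by
  have h1 : (hU.fromSpec ≫ m).appLE (Pushout6.chartι c).opensRange ⊤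
      (fun w _ => e (hU.range_fromSpec.subset ⟨w, rfl⟩)) t =
      (Scheme.ΓSpecIso Γ(T, U)).inv (φ x) := by
    have key : ∀ (a : Spec Γ(T, U) ⟶ P.obj) (h : a = Spec.map φ ≫ Pushout6.chartι c)
        (ea : ⊤ ≤ a ⁻¹ᵁ (Pushout6.chartι c).opensRange),
        a.appLE _ ⊤ ea t = (Scheme.ΓSpecIso Γ(T, U)).inv (φ x) := by
      rintro a rfl ea
      rw [← Scheme.Hom.appLE_comp_appLE (Spec.map φ) (Pushout6.chartι c) (Pushout6.chartι c).opensRange ⊤ ⊤ (fun w _ => ⟨w, rfl⟩)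
        (fun _ _ => trivial), CommRingCat.comp_apply]
      refine (congrArg _ ht).trans ?_
      rw [show (Spec.map φ).appLE ⊤ ⊤ (fun _ _ => trivial) = (Spec.map φ).appTop from
        (Scheme.Hom.app_eq_appLE (Spec.map φ) (U := ⊤)).symm]
      exact (congr($(Scheme.ΓSpecIso_inv_naturality φ) x)).symm
    exact key _ hfac _
  rw [← Scheme.Hom.appLE_comp_appLE hU.fromSpec m _ U ⊤ e
    (fun w _ => hU.range_fromSpec.subset ⟨w, rfl⟩), CommRingCat.comp_apply] at h1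
  have hb : Function.Bijective ((Scheme.ΓSpecIso Γ(T, U)).inv) := ConcreteCategory.bijective_of_isIso _
  have h2 : hU.fromSpec.appLE U ⊤ (fun w _ => hU.range_fromSpec.subset ⟨w, rfl⟩) =
      (Scheme.ΓSpecIso Γ(T, U)).inv := by
    rw [Scheme.Hom.appLE, hU.fromSpec_app_self, Category.assoc, ← Functor.map_comp]
    exact (congrArg ((Scheme.ΓSpecIso Γ(T, U)).inv ≫ ·) ((Spec Γ(T, U)).presheaf.map_id _)).trans (Category.comp_id _)
  rw [h2] at h1
  exact hb.1 h1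

theorem exists_of_chart (c : Pushout6.Chart P.jmap (twist P.d P.qΩ)) {V : P.obj.Opens}
    (hV : V = (Pushout6.chartι c).opensRange) (v : Ribbon10.E P.E (P.emb ⁻¹ᵁ V))
    (h : P.q.app _ v.snd = P.d.app _ v.fst) :
    ∃! t : Γ(P.obj, V), P.tau V t = v := by
  subst hV
  obtain ⟨e1, e2⟩ := P.chart_range c
  let O := (Pushout6.chartι c).opensRange
  have eU : c.U ≤ pr P.E P.qE ⁻¹ᵁ (P.emb ⁻¹ᵁ O) := by rw [← P.inl_preimage, e2]
  have eU' : pr P.E P.qE ⁻¹ᵁ (P.emb ⁻¹ᵁ O) ≤ c.U := by rw [← P.inl_preimage, e2]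
  have hiso : IsIso ((Pushout6.chartι c).appLE O ⊤ (fun w _ => ⟨w, rfl⟩)) := by
    haveI : IsIso ((Pushout6.chartι c).app O) := Scheme.Hom.isIso_app _ _ le_rfl
    have hO : Pushout6.chartι c ⁻¹ᵁ O = ⊤ := top_le_iff.1 fun w _ => ⟨w, rfl⟩
    haveI : IsIso ((c.W).presheaf.map (homOfLE (show ⊤ ≤ Pushout6.chartι c ⁻¹ᵁ O from hO.ge)).op) := by
      haveI : IsIso (homOfLE (show ⊤ ≤ Pushout6.chartι c ⁻¹ᵁ O from hO.ge)) :=
        ⟨homOfLE hO.le, Subsingleton.elim _ _, Subsingleton.elim _ _⟩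
      infer_instance
    unfold Scheme.Hom.appLE
    infer_instance
  have hval : ∀ (t : Γ(P.obj, O)) (x : c.ring),
      (Pushout6.chartι c).appLE O ⊤ (fun w _ => ⟨w, rfl⟩) t = (Scheme.ΓSpecIso c.ring).inv x →
      P.emb.appLE O c.V e1.ge t = c.f x ∧ P.inl.appLE O c.U e2.ge t = c.g x := fun t x ht =>
    ⟨P.appLE_fromSpec P.emb c c.hV c.f (Pushout6.fromSpec_inr P.covered c) _ t x ht,
      P.appLE_fromSpec P.inl c c.hU c.g (Pushout6.fromSpec_inl P.covered c) _ t x ht⟩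
  have hinl : ∀ t : Γ(P.obj, O), fres _ eU (P.inl.appLE O _ (P.inl_preimage O).ge t) = P.inl.appLE O c.U e2.ge t :=
    fun t => congr($(Scheme.Hom.appLE_map P.inl (P.inl_preimage O).ge (homOfLE eU).op) t)
  have hemb : ∀ t : Γ(P.obj, O), fres _ e1.ge (P.emb.app O t) = P.emb.appLE O c.V e1.ge t := fun t => rfl
  have hinj : ∀ t : Γ(P.obj, O), P.tau O t = 0 → t = 0 := by
    intro t ht
    obtain ⟨x, hx⟩ := (ConcreteCategory.bijective_of_isIso (Scheme.ΓSpecIso c.ring).inv).2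
      ((Pushout6.chartι c).appLE O ⊤ (fun w _ => ⟨w, rfl⟩) t)
    obtain ⟨hf, hg⟩ := hval t x hx.symm
    have hf0 : c.f x = 0 := by
      rw [← hf, ← hemb, ← P.fst_tau, ht]
      exact map_zero _
    have hg0 : c.g x = 0 := by
      rw [← hg, ← hinl]
      have := (gam_bijective P.E P.qE (P.emb ⁻¹ᵁ O)).1 (ht.trans (map_zero _).symm)
      rw [this]
      exact map_zero _
    have hx0 : x = 0 := c.ext (hf0.trans (map_zero _).symm) (hg0.trans (map_zero _).symm)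
    rw [hx0, map_zero] at hx
    exact (ConcreteCategory.bijective_of_isIso ((Pushout6.chartι c).appLE O ⊤ (fun w _ => ⟨w, rfl⟩))).1
      (hx.symm.trans (map_zero _).symm)
  obtain ⟨κ, hκ⟩ := (gam_bijective P.E P.qE (P.emb ⁻¹ᵁ O)).2 v
  have hc : c.q (fres D e1.ge v.fst) = c.p (fres _ eU κ) := by
    let W := P.emb ⁻¹ᵁ O
    have h1 := gam_cmap P.q P.qE P.qΩ W (cmap_preimage P.q P.qE P.qΩ W).ge κ
    have h2 := gam_twist P.d P.qΩ W (twist_preimage P.d P.qΩ W).ge v.fst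
    rw [hκ] at h1
    have h3 := (gam_bijective P.Ω P.qΩ W).1 (h2.trans ((h1.trans (TrivSqZeroExt.ext rfl h :
      mapE P.q W v = jet P.d W v.fst)).symm))
    have e4 : P.jmap ⁻¹ᵁ c.U ≤ pr P.Ω P.qΩ ⁻¹ᵁ W := by
      rw [← cmap_preimage P.q P.qE P.qΩ W]
      exact P.jmap.preimage_mono eU
    have h4 := congrArg (fres _ e4) h3
    show (twist P.d P.qΩ).appLE c.V _ _ (D.presheaf.map (homOfLE e1.ge).op v.fst) =
      P.jmap.appLE c.U _ _ ((C P.E P.qE).presheaf.map (homOfLE eU).op κ)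
    rw [← CommRingCat.comp_apply, Scheme.Hom.map_appLE, ← CommRingCat.comp_apply, Scheme.Hom.map_appLE]
    refine Eq.trans ?_ (h4.trans ?_)
    · exact (congr($(Scheme.Hom.appLE_map (twist P.d P.qΩ) (twist_preimage P.d P.qΩ W).ge (homOfLE e4).op) v.fst)).symm
    · exact congr($(Scheme.Hom.appLE_map P.jmap (cmap_preimage P.q P.qE P.qΩ W).ge (homOfLE e4).op) κ)
  obtain ⟨t, ht⟩ := (ConcreteCategory.bijective_of_isIso ((Pushout6.chartι c).appLE O ⊤ (fun w _ => ⟨w, rfl⟩))).2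
    ((Scheme.ΓSpecIso c.ring).inv (c.pair _ _ hc))
  refine ⟨t, ?_, fun t' ht' => sub_eq_zero.1 (hinj _ ?_)⟩
  · obtain ⟨-, hg⟩ := hval t _ ht
    rw [Pushout6.Chart.g_pair, ← hinl] at hg
    show gam P.E P.qE (P.emb ⁻¹ᵁ O) _ = v
    rw [← hκ]
    refine congrArg (gam P.E P.qE _) ?_
    have := congrArg (fres _ eU') hg
    rwa [fres_fres, fres_fres, fres_self, fres_self] at this
  · rw [map_sub, ht', sub_eq_zero]
    obtain ⟨-, hg⟩ := hval t _ ht
    rw [Pushout6.Chart.g_pair, ← hinl] at hg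
    show _ = gam P.E P.qE (P.emb ⁻¹ᵁ O) _
    rw [← hκ]
    refine congrArg (gam P.E P.qE _) ?_
    have := congrArg (fres _ eU') hg
    rwa [fres_fres, fres_fres, fres_self, fres_self, eq_comm] at this

theorem exists_cover (V : P.obj.Opens) :
    ∃ (ι : Type u) (O : ι → P.obj.Opens), (∀ k, O k ≤ V) ∧ V ≤ (⨆ k, O k) ∧
      ∀ k, ∃ c : Pushout6.Chart P.jmap (twist P.d P.qΩ), O k = (Pushout6.chartι c).opensRange := by
  refine ⟨{ c : Pushout6.Chart P.jmap (twist P.d P.qΩ) // (Pushout6.chartι c).opensRange ≤ V },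
    fun c => (Pushout6.chartι c.1).opensRange, fun c => c.2, fun x hx => ?_, fun c => ⟨c.1, rfl⟩⟩
  obtain ⟨c, hxc, hc⟩ := Pushout6.exists_chart_le V hx
  exact Opens.mem_iSup.2 ⟨⟨c, hc⟩, hxc⟩

theorem tau_injective (V : P.obj.Opens) : Function.Injective (P.tau V) := by
  intro t u h
  obtain ⟨ι, O, hO, hcov, hc⟩ := P.exists_cover V
  refine P.obj.sheaf.eq_of_locally_eq' O V (fun k => homOfLE (hO k)) hcov t u fun k => ?_
  obtain ⟨c, hk⟩ := hc k
  refine (P.exists_of_chart c hk (P.tau (O k) (fres P.obj (hO k) u)) ?_).unique ?_ rfl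
  · rw [P.fst_tau]
    exact P.q_snd_tau (O k) _
  · show P.tau (O k) (fres P.obj (hO k) t) = _
    rw [tau_res, tau_res, h]

theorem exists_tau (V : P.obj.Opens) (v : Ribbon10.E P.E (P.emb ⁻¹ᵁ V))
    (h : P.q.app _ v.snd = P.d.app _ v.fst) : ∃ t : Γ(P.obj, V), P.tau V t = v := by
  obtain ⟨ι, O, hO, hcov, hc⟩ := P.exists_cover V
  have hex : ∀ k, ∃ t : Γ(P.obj, O k), P.tau (O k) t = resE P.E (P.emb.preimage_mono (hO k)) v := by
    intro k
    obtain ⟨c, hk⟩ := hc k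
    refine (P.exists_of_chart c hk _ ?_).exists
    refine (ConcreteCategory.congr_hom (P.q.mapPresheaf.naturality (homOfLE (P.emb.preimage_mono (hO k))).op) _).trans ?_
    exact (congrArg (P.Ω.presheaf.map _) h).trans (P.d.d_map (homOfLE (P.emb.preimage_mono (hO k))).op v.fst).symm
  choose t ht using hex
  obtain ⟨s, hs, -⟩ := P.obj.sheaf.existsUnique_gluing' O V (fun k => homOfLE (hO k)) hcov t (fun k l => by
    refine P.tau_injective _ ?_
    show P.tau _ (fres P.obj inf_le_left (t k)) = P.tau _ (fres P.obj inf_le_right (t l))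
    rw [tau_res, tau_res, ht, ht]
    exact TrivSqZeroExt.ext ((fres_fres _ _ _).trans (fres_fres _ _ _).symm)
      ((mres_mres _ _ _ _).trans (mres_mres _ _ _ _).symm))
  let s' : Γ(P.obj, V) := s
  refine ⟨s', ?_⟩
  have hk : ∀ k, resE P.E (P.emb.preimage_mono (hO k)) (P.tau V s') = resE P.E (P.emb.preimage_mono (hO k)) v :=
    fun k => (P.tau_res (hO k) s').symm.trans ((congrArg _ (hs k)).trans (ht k))
  have hcov' : P.emb ⁻¹ᵁ V ≤ ⨆ k, P.emb ⁻¹ᵁ (O k) := fun y hy => by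
    obtain ⟨k, hk⟩ := Opens.mem_iSup.1 (hcov (show P.emb y ∈ V from hy))
    exact Opens.mem_iSup.2 ⟨k, hk⟩
  refine TrivSqZeroExt.ext ?_ ?_
  · exact D.sheaf.eq_of_locally_eq' (fun k => P.emb ⁻¹ᵁ (O k)) (P.emb ⁻¹ᵁ V)
      (fun k => homOfLE (P.emb.preimage_mono (hO k))) hcov' _ _ fun k => congrArg TrivSqZeroExt.fst (hk k)
  · exact TopCat.Sheaf.eq_of_locally_eq' ⟨P.E.presheaf, P.E.isSheaf⟩ (fun k => P.emb ⁻¹ᵁ (O k)) (P.emb ⁻¹ᵁ V)
      (fun k => homOfLE (P.emb.preimage_mono (hO k))) hcov' _ _ fun k => congrArg TrivSqZeroExt.snd (hk k)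

end Data

end GrothLib.RibExt10
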